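import Mathlib
import Groth.Agent.Lib.Helper5.Stalk.FlatPull
import Groth.Agent.Lib.Helper5.Perf.LocalCoh
import Groth.Agent.Lib.Helper1.PushQc
import Groth.Agent.Lib.Helper1.QcProd
import Groth.Agent.Lib.Lead.PBQc

/-!
# Quasi-coherence of an arbitrary module descends along flat surjective quasi-compact morphisms
(helper5)
-/
set_option autoImplicit false
set_option linter.unusedSectionVars false
set_option linter.unusedVariables false
set_option linter.style.haveILetI false
universe u
open CategoryTheory CategoryTheory.Limits AlgebraicGeometry TopologicalSpace Opposite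

namespace Groth.Agent.Lib.Helper5.QcDesc

open Groth.Agent.Lib.Helper5.StalkAdj

variable {X Y : Scheme.{u}}

/-- pullback along a flat morphism reflects the vanishing of stalks at image points -/
theorem isZero_stalk_of_isZero_pullback (f : X ⟶ Y) [Flat f] (K : Y.Modules) (x : X)
    (h : IsZero ((Scheme.Modules.pullback f).obj K)) : IsZero ((stalkSh Y (f x)).obj K) := by
  have h1 : IsZero ((stalkSh X x).obj ((Scheme.Modules.pullback f).obj K)) :=
    (stalkSh X x).map_isZero h
  have h2 : IsZero ((ModuleCat.extendScalars.{u, u, u} (f.stalkMap x).hom).obj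
      ((stalkSh Y (f x)).obj K)) := h1.of_iso ((stalkPullbackIso f x).app K).symm
  letI := (f.stalkMap x).hom.toAlgebra
  haveI : Module.Flat (Y.presheaf.stalk (f x)) (X.presheaf.stalk x) := Flat.stalkMap f x
  haveI : IsLocalHom (algebraMap (Y.presheaf.stalk (f x)) (X.presheaf.stalk x)) :=
    inferInstanceAs (IsLocalHom (f.stalkMap x).hom)
  haveI : Module.FaithfullyFlat (Y.presheaf.stalk (f x)) (X.presheaf.stalk x) :=
    Module.FaithfullyFlat.of_flat_of_isLocalHom
  rw [ModuleCat.isZero_iff_subsingleton] at h2 ⊢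
  haveI : Subsingleton (TensorProduct (Y.presheaf.stalk (f x)) (X.presheaf.stalk x)
      ((stalkSh Y (f x)).obj K)) := h2
  exact Module.FaithfullyFlat.lTensor_reflects_triviality (Y.presheaf.stalk (f x))
    (X.presheaf.stalk x) ((stalkSh Y (f x)).obj K)

section Family

variable {ι : Type u} [Finite ι] (U : ι → Scheme.{u}) (h : ∀ i, U i ⟶ Y)

/-- `∏ h_{i,*} h_i^* N` -/
noncomputable def G (N : Y.Modules) : Y.Modules :=
  ∏ᶜ fun i => (Scheme.Modules.pushforward (h i)).obj ((Scheme.Modules.pullback (h i)).obj N)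

/-- the product of the units -/
noncomputable def eta (N : Y.Modules) : N ⟶ G U h N :=
  Pi.lift fun i => (Scheme.Modules.pullbackPushforwardAdjunction (h i)).unit.app N

lemma eta_π (N : Y.Modules) (i : ι) :
    eta U h N ≫ Pi.π _ i = (Scheme.Modules.pullbackPushforwardAdjunction (h i)).unit.app N := by
  unfold eta
  exact Pi.lift_π _ i

theorem mono_eta [∀ i, Flat (h i)] (hsurj : ∀ y : Y, ∃ (i : ι) (x : U i), (h i) x = y)
    (N : Y.Modules) : Mono (eta U h N) := by
  apply Preadditive.mono_of_isZero_kernel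
  apply isZero_of_stalks
  intro y
  obtain ⟨i, x, rfl⟩ := hsurj y
  apply isZero_stalk_of_isZero_pullback (h i) _ x
  set adj := Scheme.Modules.pullbackPushforwardAdjunction (h i) with hadj
  have c : kernel.ι (eta U h N) ≫ adj.unit.app N = 0 := by
    rw [← eta_π U h N i, ← Category.assoc, kernel.condition, zero_comp]
  have c2 : (Scheme.Modules.pullback (h i)).map (kernel.ι (eta U h N)) ≫
      (Scheme.Modules.pullback (h i)).map (adj.unit.app N) = 0 := by
    rw [← Functor.map_comp, c, Functor.map_zero]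
  have tri : (Scheme.Modules.pullback (h i)).map (adj.unit.app N) ≫
      adj.counit.app ((Scheme.Modules.pullback (h i)).obj N) = 𝟙 _ :=
    adj.left_triangle_components N
  have c3 : (Scheme.Modules.pullback (h i)).map (kernel.ι (eta U h N)) = 0 := by
    calc (Scheme.Modules.pullback (h i)).map (kernel.ι (eta U h N))
        = (Scheme.Modules.pullback (h i)).map (kernel.ι (eta U h N)) ≫
            ((Scheme.Modules.pullback (h i)).map (adj.unit.app N) ≫
              adj.counit.app ((Scheme.Modules.pullback (h i)).obj N)) := by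
          rw [tri]; exact (Category.comp_id _).symm
      _ = 0 := by rw [← Category.assoc, c2, zero_comp]
  haveI : Mono ((Scheme.Modules.pullback (h i)).map (kernel.ι (eta U h N))) := inferInstance
  exact IsZero.of_mono_eq_zero _ c3

theorem isQuasicoherent_G [∀ i, QuasiCompact (h i)] [∀ i, QuasiSeparated (h i)] (N : Y.Modules)
    (hN : ∀ i, ((Scheme.Modules.pullback (h i)).obj N).IsQuasicoherent) :
    (G U h N).IsQuasicoherent := by
  haveI := hN
  haveI : ∀ i, ((Scheme.Modules.pushforward (h i)).obj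
      ((Scheme.Modules.pullback (h i)).obj N)).IsQuasicoherent := fun i =>
    Groth.Agent.Helper1.PushQc.isQuasicoherent_pushforward (h i) _
  unfold G
  exact Groth.Agent.Helper1.QcAbel.isQuasicoherent_pi _

/-- quasi-coherence of an arbitrary module descends along a finite jointly surjective family of
flat quasi-compact quasi-separated morphisms -/
theorem isQuasicoherent_of_family [∀ i, Flat (h i)] [∀ i, QuasiCompact (h i)]
    [∀ i, QuasiSeparated (h i)] (hsurj : ∀ y : Y, ∃ (i : ι) (x : U i), (h i) x = y)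
    (F : Y.Modules) (hF : ∀ i, ((Scheme.Modules.pullback (h i)).obj F).IsQuasicoherent) :
    F.IsQuasicoherent := by
  haveI := hF
  haveI hG : (G U h F).IsQuasicoherent := isQuasicoherent_G U h F hF
  have hQ : ∀ i, ((Scheme.Modules.pullback (h i)).obj (cokernel (eta U h F))).IsQuasicoherent := by
    intro i
    have e : (Scheme.Modules.pullback (h i)).obj (cokernel (eta U h F)) ≅
        cokernel ((Scheme.Modules.pullback (h i)).map (eta U h F)) :=
      PreservesCokernel.iso (Scheme.Modules.pullback (h i)) (eta U h F)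
    haveI : ((Scheme.Modules.pullback (h i)).obj (G U h F)).IsQuasicoherent :=
      Groth.Agent.Lead.PB.isQuasicoherent_pullback (h i) _
    haveI := Groth.Agent.Helper1.QcAbel.isQuasicoherent_cokernel
      ((Scheme.Modules.pullback (h i)).map (eta U h F))
    exact Groth.Agent.Helper1.QcAbel.isQuasicoherent_of_iso e.symm
  haveI hGQ : (G U h (cokernel (eta U h F))).IsQuasicoherent := isQuasicoherent_G U h _ hQ
  haveI m1 := mono_eta U h hsurj F
  haveI m2 := mono_eta U h hsurj (cokernel (eta U h F))
  let S' : ShortComplex Y.Modules :=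
    ShortComplex.mk (eta U h F) (cokernel.π (eta U h F)) (cokernel.condition _)
  have hS' : S'.Exact := ShortComplex.exact_cokernel (eta U h F)
  let S : ShortComplex Y.Modules :=
    ShortComplex.mk (eta U h F) (cokernel.π (eta U h F) ≫ eta U h (cokernel (eta U h F)))
      (by rw [← Category.assoc, cokernel.condition, zero_comp])
  let α : S' ⟶ S :=
    { τ₁ := 𝟙 _
      τ₂ := 𝟙 _
      τ₃ := eta U h (cokernel (eta U h F))
      comm₁₂ := by simp [S, S']
      comm₂₃ := by simp [S, S'] }
  have : Epi α.τ₁ := inferInstanceAs (Epi (𝟙 _))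
  have : IsIso α.τ₂ := inferInstanceAs (IsIso (𝟙 _))
  have : Mono α.τ₃ := m2
  have hS : S.Exact := (ShortComplex.exact_iff_of_epi_of_isIso_of_mono α).1 hS'
  have : Mono S.f := m1
  have : S.X₂.IsQuasicoherent := hG
  have : S.X₃.IsQuasicoherent := hGQ
  exact Groth.Agent.Helper1.QcAbel.isQuasicoherent_left (S := S) hS

end Family

/-- **quasi-coherence of an arbitrary module descends along flat surjective quasi-compact
morphisms** -/
theorem isQuasicoherent_of_pullback (f : X ⟶ Y) [Flat f] [Surjective f] [QuasiCompact f]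
    (M : Y.Modules) (hM : ((Scheme.Modules.pullback f).obj M).IsQuasicoherent) :
    M.IsQuasicoherent := by
  apply Groth.Agent.Lib.Helper5.LocalCoh.isQuasicoherent_of_locally
  intro y
  obtain ⟨V, hV, hyV⟩ : ∃ V : Y.Opens, IsAffineOpen V ∧ y ∈ V := by
    obtain ⟨_, ⟨V, hV : IsAffineOpen V, rfl⟩, hyV, -⟩ :=
      Y.isBasis_affineOpens.exists_subset_of_mem_open (Set.mem_univ y) isOpen_univ
    exact ⟨V, hV, hyV⟩
  refine ⟨V, hyV, ?_⟩
  have hc : IsCompact ((f ⁻¹ᵁ V : X.Opens) : Set X) :=
    QuasiCompact.isCompact_preimage (f := f) _ V.isOpen hV.isCompact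
  obtain ⟨s, hsfin, hs⟩ := isCompact_iff_finite_and_eq_biUnion_affineOpens.1 hc
  haveI : Finite s := hsfin
  have hle : ∀ W : s, (W.1 : X.Opens) ≤ f ⁻¹ᵁ V := fun W => by
    rw [hs]
    exact le_iSup₂ (f := fun (i : X.affineOpens) (_ : i ∈ s) => (i : X.Opens)) W.1 W.2
  haveI : IsAffine ((V : Y.Opens) : Scheme.{u}) := hV
  haveI : ∀ W : s, IsAffine (((W.1 : X.Opens)) : Scheme.{u}) := fun W => W.1.2
  have key := isQuasicoherent_of_family (Y := (V : Scheme.{u})) (ι := s)
    (fun W => ((W.1 : X.Opens) : Scheme.{u})) (fun W => f.resLE V W.1 (hle W)) ?_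
    ((Scheme.Modules.pullback V.ι).obj M) ?_
  · exact Groth.Agent.Helper1.QcAbel.isQuasicoherent_of_iso
      ((Scheme.Modules.restrictFunctorIsoPullback V.ι).app M).symm
  · intro v
    obtain ⟨x, hx⟩ := Surjective.surj (f := f) (v.1 : Y)
    have hxV : x ∈ f ⁻¹ᵁ V := by
      change f x ∈ V
      rw [hx]; exact v.2
    rw [hs] at hxV
    simp only [Opens.mem_iSup] at hxV
    obtain ⟨W, hWs, hxW⟩ := hxV
    refine ⟨⟨W, hWs⟩, ⟨x, hxW⟩, ?_⟩
    apply Subtype.ext
    have h1 := congrArg (fun g => g ⟨x, hxW⟩) (congrArg (fun g : (W : Scheme.{u}) ⟶ Y => g.base)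
      (Scheme.Hom.resLE_comp_ι f (hle ⟨W, hWs⟩)))
    simpa [hx] using h1
  · intro W
    have e1 : (Scheme.Modules.pullback (f.resLE V W.1 (hle W))).obj
        ((Scheme.Modules.pullback V.ι).obj M) ≅
        (Scheme.Modules.pullback (f.resLE V W.1 (hle W) ≫ V.ι)).obj M :=
      (Scheme.Modules.pullbackComp (f.resLE V W.1 (hle W)) V.ι).app M
    have e2 := (Scheme.Modules.pullbackCongr (Scheme.Hom.resLE_comp_ι f (hle W))).app M
    have e3 : (Scheme.Modules.pullback (W.1 : X.Opens).ι).obj
        ((Scheme.Modules.pullback f).obj M) ≅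
        (Scheme.Modules.pullback ((W.1 : X.Opens).ι ≫ f)).obj M :=
      (Scheme.Modules.pullbackComp (W.1 : X.Opens).ι f).app M
    haveI : ((Scheme.Modules.pullback (W.1 : X.Opens).ι).obj
        ((Scheme.Modules.pullback f).obj M)).IsQuasicoherent :=
      Groth.Agent.Lead.PB.isQuasicoherent_pullback _ _
    exact Groth.Agent.Helper1.QcAbel.isQuasicoherent_of_iso (e3 ≪≫ e2.symm ≪≫ e1.symm)

end Groth.Agent.Lib.Helper5.QcDesc
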